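import Groth.Agent.Lib.FibreLocus.PointFibre
import Groth.Agent.Lib.SchBasic.Basic
import Groth.Agent.Lib.EtaleQF.Basic
import Mathlib.AlgebraicGeometry.Morphisms.FlatRank
import Mathlib.AlgebraicGeometry.ZariskisMainTheorem

/-!
# A morphism of proper schemes, flat source, is an isomorphism near an isomorphic fibre
-/

universe u

open CategoryTheory CategoryTheory.Limits AlgebraicGeometry TopologicalSpace

set_option backward.isDefEq.respectTransparency false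
set_option linter.style.haveILetI false

namespace Groth.Agent.FibIso5

open Groth.Agent.FibreLocus

variable {X Y S : Scheme.{u}} (f : X ⟶ Y) (h : Y ⟶ S)

/-- The map of fibres is the base change along the fibre of the target. -/
theorem isPullback_fiberMapOver (s : S) :
    IsPullback ((f ≫ h).fiberι s) (CohIII.fiberMapOver f (f ≫ h) h rfl s) f (h.fiberι s) :=
  IsPullback.of_bot
    (show IsPullback ((f ≫ h).fiberι s) (CohIII.fiberMapOver f (f ≫ h) h rfl s ≫ h.fiberToSpecResidueField s)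
        (f ≫ h) (S.fromSpecResidueField s) by
      rw [show CohIII.fiberMapOver f (f ≫ h) h rfl s ≫ h.fiberToSpecResidueField s =
        (f ≫ h).fiberToSpecResidueField s from (pullback.lift_snd _ _ _).trans (Category.comp_id _)]
      exact IsPullback.of_hasPullback _ _)
    (pullback.lift_fst _ _ _).symm (IsPullback.of_hasPullback h (S.fromSpecResidueField s))

/-- Over an open containing the fibre, the map of fibres is a base change of the restriction. -/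
theorem exists_isPullback_restrict (s : S) (V : Y.Opens) (hV : ∀ z, h.fiberι s z ∈ V) :
    ∃ (L : (f ≫ h).fiber s ⟶ (f ⁻¹ᵁ V).toScheme) (κ : h.fiber s ⟶ V.toScheme), κ ≫ V.ι = h.fiberι s ∧
      IsPullback L (CohIII.fiberMapOver f (f ≫ h) h rfl s) (f ∣_ V) κ := by
  let κ : h.fiber s ⟶ V.toScheme := IsOpenImmersion.lift V.ι (h.fiberι s) (by
    rw [Scheme.Opens.range_ι]; rintro _ ⟨z, rfl⟩; exact hV z)
  have hκ : κ ≫ V.ι = h.fiberι s := IsOpenImmersion.lift_fac _ _ _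
  have hsq := isPullback_fiberMapOver f h s
  have hsq' : IsPullback (f ⁻¹ᵁ V).ι (f ∣_ V) f V.ι := (isPullback_morphismRestrict f V).flip
  let L : (f ≫ h).fiber s ⟶ (f ⁻¹ᵁ V).toScheme :=
    IsOpenImmersion.lift (f ⁻¹ᵁ V).ι ((f ≫ h).fiberι s) (by
      rw [Scheme.Opens.range_ι]
      rintro _ ⟨x, rfl⟩
      show f ((f ≫ h).fiberι s x) ∈ V
      rw [← Scheme.Hom.comp_apply, hsq.w, Scheme.Hom.comp_apply]
      exact hV _)
  have hL : L ≫ (f ⁻¹ᵁ V).ι = (f ≫ h).fiberι s := IsOpenImmersion.lift_fac _ _ _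
  refine ⟨L, κ, hκ, IsPullback.of_right (by rw [hL, hκ]; exact hsq) ?_ hsq'⟩
  rw [← cancel_mono V.ι, Category.assoc, hsq'.w.symm, ← Category.assoc, hL, Category.assoc, hκ]
  exact hsq.w

/-- An isomorphism over an open containing a fibre is an isomorphism on the fibre. -/
theorem isIso_fiberMapOver {s : S} (V : Y.Opens) (hV : ∀ z, h.fiberι s z ∈ V) [IsIso (f ∣_ V)] :
    IsIso (CohIII.fiberMapOver f (f ≫ h) h rfl s) := by
  obtain ⟨L, κ, -, hsq⟩ := exists_isPullback_restrict f h s V hV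
  exact MorphismProperty.of_isPullback (P := MorphismProperty.isomorphisms Scheme) hsq (‹IsIso (f ∣_ V)›)

theorem isIso_restrict_of_le {V W : Y.Opens} (hVW : V ≤ W) [IsFinite (f ∣_ W)] [Flat (f ∣_ W)]
    (h1 : ∀ v : W, v.1 ∈ V → (f ∣_ W).finrank v = 1) : IsIso (f ∣_ V) := by
  have hsq : IsPullback (X.homOfLE (show f ⁻¹ᵁ V ≤ f ⁻¹ᵁ W from fun x hx => hVW hx)) (f ∣_ V) (f ∣_ W)
      (Y.homOfLE hVW) := by
    refine IsPullback.of_right ?_ ?_ (isPullback_morphismRestrict f W).flip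
    · rw [Scheme.homOfLE_ι, Scheme.homOfLE_ι]
      exact (isPullback_morphismRestrict f V).flip
    · rw [← cancel_mono W.ι, Category.assoc, Category.assoc, morphismRestrict_ι, Scheme.homOfLE_ι,
        morphismRestrict_ι, ← Category.assoc, Scheme.homOfLE_ι]
  haveI : IsFinite (f ∣_ V) := MorphismProperty.of_isPullback hsq ‹IsFinite (f ∣_ W)›
  haveI : Flat (f ∣_ V) := MorphismProperty.of_isPullback hsq ‹Flat (f ∣_ W)›
  rw [Scheme.Hom.isIso_iff_finrank_eq]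
  funext v
  rw [Scheme.Hom.finrank_of_isPullback _ _ _ _ hsq v, Pi.one_apply]
  refine h1 _ ?_
  have : W.ι (Y.homOfLE hVW v) = V.ι v := by rw [← Scheme.Hom.comp_apply, Scheme.homOfLE_ι]
  show W.ι (Y.homOfLE hVW v) ∈ V
  rw [this]
  exact v.2

variable [IsProper (f ≫ h)] [LocallyOfFinitePresentation (f ≫ h)] [Flat (f ≫ h)] [IsProper h]
  [LocallyOfFinitePresentation h]

/-- If the map of fibres over `s` is an isomorphism, so is `f` over a neighbourhood of `s`. -/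
theorem exists_nhd (s : S) (hs : IsIso (CohIII.fiberMapOver f (f ≫ h) h rfl s)) :
    ∃ U : S.Opens, s ∈ U ∧ IsIso (f ∣_ (h ⁻¹ᵁ U)) := by
  haveI := hs
  haveI : IsProper f := IsProper.of_comp f h
  haveI : LocallyOfFinitePresentation f := SchBasic.locallyOfFinitePresentation_of_comp f h
  let m := CohIII.fiberMapOver f (f ≫ h) h rfl s
  have hpt : ∀ x, (f ≫ h) x = s → ∃ U : X.Opens, x ∈ U ∧ Etale (U.ι ≫ f) := by
    intro x hx
    obtain ⟨x', rfl⟩ := ((f ≫ h).range_fiberι s).ge hx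
    rw [exists_etale_nhd_iff]
    refine ⟨(smoothPt_iff_fiberMapOver f h x' (Flat.stalkMap (f ≫ h) _)).2 ⟨⊤, trivial, inferInstance⟩,
      (unrPt_iff_fiberMapOver f h x').2 ⟨⊤, trivial, inferInstance⟩⟩
  let E : X.Opens := ⨆ (U : {U : X.Opens // Etale (U.ι ≫ f)}), U.1
  let U₁ : S.Opens := ⟨((f ≫ h) '' (E : Set X)ᶜ)ᶜ, ((f ≫ h).isClosedMap _ E.2.isClosed_compl).isOpen_compl⟩
  have hsU₁ : s ∈ U₁ := by
    rintro ⟨x, hx, hxs⟩
    obtain ⟨U, hxU, hU⟩ := hpt x hxs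
    exact hx (TopologicalSpace.Opens.mem_iSup.2 ⟨⟨U, hU⟩, hxU⟩)
  let V : Y.Opens := h ⁻¹ᵁ U₁
  have hVE : f ⁻¹ᵁ V ≤ E := fun x hx => by_contra fun hn => hx ⟨x, hn, Scheme.Hom.comp_apply f h x⟩
  haveI : Etale (f ∣_ V) := by
    have h2 : Etale (E.ι ≫ f) := by
      refine (IsZariskiLocalAtSource.iff_of_iSup_eq_top (P := @Etale)
        (fun U : {U : X.Opens // Etale (U.ι ≫ f)} => E.ι ⁻¹ᵁ U.1) ?_).2 fun U => ?_
      · refine eq_top_iff.2 fun x _ => ?_
        obtain ⟨U, hU⟩ := TopologicalSpace.Opens.mem_iSup.1 x.2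
        exact TopologicalSpace.Opens.mem_iSup.2 ⟨U, hU⟩
      · have hle : E.ι ''ᵁ (E.ι ⁻¹ᵁ U.1) ≤ U.1 := by rintro _ ⟨y, hy, rfl⟩; exact hy
        haveI := U.2
        rw [show (E.ι ⁻¹ᵁ U.1).ι ≫ E.ι ≫ f =
          (E.ι.isoImage _).hom ≫ X.homOfLE hle ≫ U.1.ι ≫ f by
          rw [← Category.assoc (X.homOfLE hle), Scheme.homOfLE_ι, ← Category.assoc (E.ι.isoImage _).hom,
            Scheme.Hom.isoImage_hom_ι, Category.assoc]]
        infer_instance
    haveI := h2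
    haveI : Etale ((f ⁻¹ᵁ V).ι ≫ f) := by
      rw [← X.homOfLE_ι hVE, Category.assoc]
      infer_instance
    rw [← morphismRestrict_ι] at this
    haveI := this
    exact MorphismProperty.of_postcomp (W := @Etale) (W' := @Etale) (f ∣_ V) V.ι inferInstance inferInstance
  haveI : LocallyQuasiFinite (f ∣_ V) := ((EtaleQF.etale_iff_smooth_and_locallyQuasiFinite (f ∣_ V)).1 inferInstance).2
  haveI : IsFinite (f ∣_ V) := IsFinite.of_isProper_of_locallyQuasiFinite (f ∣_ V)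
  let O : Set V := (f ∣_ V).finrank ⁻¹' {1}
  have hO : IsOpen O := (f ∣_ V).isLocallyConstant_finrank.isOpen_fiber 1
  have hsO : ∀ y, h y = s → y ∈ V.ι '' O := by
    intro y hy
    obtain ⟨z, rfl⟩ := (h.range_fiberι s).ge hy
    obtain ⟨L, κ, hκ, hsq⟩ := exists_isPullback_restrict f h s V (fun z => by
      show h (h.fiberι s z) ∈ U₁
      rw [show h (h.fiberι s z) = s from (h.range_fiberι s).le ⟨z, rfl⟩]
      exact hsU₁)
    refine ⟨κ z, ?_, by rw [← Scheme.Hom.comp_apply, hκ]⟩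
    show (f ∣_ V).finrank (κ z) = 1
    rw [← Scheme.Hom.finrank_of_isPullback _ _ _ _ hsq z, Scheme.Hom.finrank_eq_one_of_isIso, Pi.one_apply]
  let U : S.Opens := ⟨(h '' (V.ι '' O)ᶜ)ᶜ,
    (h.isClosedMap _ (V.ι.isOpenEmbedding.isOpenMap _ hO).isClosed_compl).isOpen_compl⟩
  refine ⟨U, fun ⟨y, hy, hys⟩ => hy (hsO y hys), ?_⟩
  have hUO : ∀ y ∈ h ⁻¹ᵁ U, y ∈ V.ι '' O := fun y hy => by_contra fun hn => hy ⟨y, hn, rfl⟩
  refine isIso_restrict_of_le f (W := V) (fun y hy => ?_) fun v hv => ?_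
  · obtain ⟨v, -, rfl⟩ := hUO y hy
    exact v.2
  · obtain ⟨v', hv', hvv⟩ := hUO _ hv
    rw [show v = v' from Subtype.ext hvv.symm]
    exact hv'

/-- The iso locus of the maps of fibres is open and `f` is an isomorphism over it. -/
theorem exists_open_locus :
    ∃ U : S.Opens, (∀ s, s ∈ U ↔ IsIso (CohIII.fiberMapOver f (f ≫ h) h rfl s)) ∧ IsIso (f ∣_ (h ⁻¹ᵁ U)) := by
  let T := {U : S.Opens // IsIso (f ∣_ (h ⁻¹ᵁ U))}
  let U : S.Opens := ⨆ t : T, t.1
  haveI hU : IsIso (f ∣_ (h ⁻¹ᵁ U)) := by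
    have hsup : ⨆ t : T, (h ⁻¹ᵁ U).ι ⁻¹ᵁ (h ⁻¹ᵁ t.1) = ⊤ := by
      refine eq_top_iff.2 fun y _ => ?_
      obtain ⟨t, ht⟩ := TopologicalSpace.Opens.mem_iSup.1 y.2
      exact TopologicalSpace.Opens.mem_iSup.2 ⟨t, ht⟩
    refine (IsZariskiLocalAtTarget.iff_of_iSup_eq_top (P := MorphismProperty.isomorphisms Scheme) _ hsup).2
      fun t => ?_
    refine ((MorphismProperty.isomorphisms Scheme).arrow_mk_iso_iff (morphismRestrictRestrict f _ _)).2 ?_
    have himg : (h ⁻¹ᵁ U).ι ''ᵁ ((h ⁻¹ᵁ U).ι ⁻¹ᵁ (h ⁻¹ᵁ t.1)) = h ⁻¹ᵁ t.1 := by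
      rw [Scheme.Hom.image_preimage_eq_opensRange_inf, Scheme.Opens.opensRange_ι]
      exact inf_eq_right.2 fun y hy => TopologicalSpace.Opens.mem_iSup.2 ⟨t, hy⟩
    rw [himg]
    exact t.2
  refine ⟨U, fun s => ⟨fun hs => ?_, fun hs => ?_⟩, hU⟩
  · refine isIso_fiberMapOver f h (h ⁻¹ᵁ U) fun z => ?_
    show h (h.fiberι s z) ∈ U
    rw [show h (h.fiberι s z) = s from (h.range_fiberι s).le ⟨z, rfl⟩]
    exact hs
  · obtain ⟨U', hs', hU'⟩ := exists_nhd f h s hs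
    exact TopologicalSpace.Opens.mem_iSup.2 ⟨⟨U', hU'⟩, hs'⟩

end Groth.Agent.FibIso5
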